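import Cfsg.Agent.U43Mult50.Gens
import Cfsg.Agent.U43Mult50.Reduce

/-!
The ninefold cover of `SU_4(3)` and the multiplier of `PSU_4(3)` (helper50).
-/

set_option autoImplicit false

namespace Cfsg.Agent.U43Mult50

open Matrix Cfsg.Agent.Unitary Cfsg.Agent.ChevCore Cfsg.Agent.CosetEnum
open scoped commutatorElement

universe v

variable {F : Type v} [Field F] {ι : F}

/-- The matrix of an element. -/
def mat (g : SU 4 F 3) : Matrix (Fin 4) (Fin 4) F := (g : Matrix.SpecialLinearGroup (Fin 4) F).1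

theorem mat_mul (g h : SU 4 F 3) : mat (g * h) = mat g * mat h := rfl

theorem mat_one : mat (1 : SU 4 F 3) = 1 := rfl

/-- The twisted matrix of an element. -/
def mat' (ι : F) (g : SU 4 F 3) : Matrix (Fin 4) (Fin 4) F :=
  Matrix.diagonal (fun r : Fin 4 => val ι (dN r)) * mat g *
    Matrix.diagonal (fun r : Fin 4 => val ι (dInvN r))

variable [Fintype F] (hF : Fintype.card F = 3 ^ 2) (hι : ι * ι = -1)
include hF hι

theorem diag_inv : Matrix.diagonal (fun r : Fin 4 => val ι (dInvN r)) *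
    Matrix.diagonal (fun r : Fin 4 => val ι (dN r)) = 1 ∧
    Matrix.diagonal (fun r : Fin 4 => val ι (dN r)) *
    Matrix.diagonal (fun r : Fin 4 => val ι (dInvN r)) = 1 := by
  have h : ∀ r : Fin 4, cmul (dInvN r) (dN r) = 1 ∧ cmul (dN r) (dInvN r) = 1 := by decide
  constructor <;> rw [Matrix.diagonal_mul_diagonal, ← Matrix.diagonal_one] <;> congr 1 <;>
    funext r <;> rw [← val_cmul hF hι]
  · rw [(h r).1, val_one]
  · rw [(h r).2, val_one]

theorem mat'_mul (g h : SU 4 F 3) : mat' ι (g * h) = mat' ι g * mat' ι h := by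
  simp only [mat', mat_mul, Matrix.mul_assoc]
  rw [← Matrix.mul_assoc (Matrix.diagonal fun r : Fin 4 => val ι (dInvN r)),
    (diag_inv hF hι).1, Matrix.one_mul]

theorem mat'_one : mat' ι (1 : SU 4 F 3) = 1 := by
  rw [mat', mat_one, Matrix.mul_one, (diag_inv hF hι).2]

/-- The triples. -/
def cov : Subgroup (SU 4 F 3 × Equiv.Perm Pt × Equiv.Perm Pt) where
  carrier := {x | Compat ι (mat x.1) x.2.1 ∧ Compat ι (mat' ι x.1) x.2.2}
  one_mem' := ⟨by rw [Prod.fst_one, mat_one]; exact compat_one,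
    by rw [Prod.fst_one, mat'_one hF hι]; exact compat_one⟩
  mul_mem' := by
    rintro x y ⟨h1, h2⟩ ⟨h1', h2'⟩
    exact ⟨compat_mul h1 h1', by rw [Prod.fst_mul, mat'_mul hF hι]; exact compat_mul h2 h2'⟩
  inv_mem' := by
    intro x hx
    have hpow : ∀ n : ℕ, Compat ι (mat (x ^ n).1) (x ^ n).2.1 ∧
        Compat ι (mat' ι (x ^ n).1) (x ^ n).2.2 := by
      intro n
      induction n with
      | zero =>
        exact ⟨by rw [pow_zero, Prod.fst_one, mat_one]; exact compat_one,
          by rw [pow_zero, Prod.fst_one, mat'_one hF hι]; exact compat_one⟩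
      | succ n ih =>
        rw [pow_succ]
        exact ⟨compat_mul ih.1 hx.1,
          by rw [Prod.fst_mul, mat'_mul hF hι]; exact compat_mul ih.2 hx.2⟩
    have e : x⁻¹ = x ^ (orderOf x - 1) := inv_eq_of_mul_eq_one_right (by
      rw [← pow_succ', Nat.sub_add_cancel (orderOf_pos x), pow_orderOf_eq_one])
    rw [e]
    exact hpow _

theorem exists_lift_gen {k : ℕ} (hk : k < 5) : ∃ g : SU 4 F 3,
    (g, permP ⟨k, by omega⟩, permP ⟨k + 5, by omega⟩) ∈ cov hF hι ∧
    IsGen ι k g ∧
    ∀ x, g • x = x + (herm 3 x (fun i : Fin 4 => val ι (genU k i)) •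
        (fun i : Fin 4 => val ι (genU k (4 + i))) -
      herm 3 x (fun i : Fin 4 => val ι (genU k (4 + i))) • (fun i : Fin 4 => val ι (genU k i)) +
      (val ι (genU k 8) * herm 3 x (fun i : Fin 4 => val ι (genU k i))) •
        (fun i : Fin 4 => val ι (genU k i))) := by
  obtain ⟨g, hg, hsm⟩ := exists_gen hF hι hk
  refine ⟨g, ⟨?_, ?_⟩, hg, hsm⟩
  · show Compat ι (mat g) _
    rw [show mat g = matM ι k from hg]
    exact compat_gen hF hι ⟨k, by omega⟩
  · show Compat ι (mat' ι g) _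
    rw [mat', show mat g = matM ι k from hg, ← genM_conj hF hι hk]
    exact compat_gen hF hι ⟨k + 5, by omega⟩

/-- All transvections at `x` lift. -/
def Good (x : Fin 4 → F) : Prop :=
  ∀ (c : F) (hu : herm 3 x x = 0) (hc : c + c ^ 3 = 0),
    tv hF hu hc ∈ (cov hF hι).map (MonoidHom.fst (SU 4 F 3) _)

omit hι in
theorem herm_smul_self (l : F) (x : Fin 4 → F) : herm 3 (l • x) (l • x) = l ^ 4 * herm 3 x x := by
  rw [herm_smul_left, herm_smul_right hF]; ring

theorem good_smul {x : Fin 4 → F} (h : Good hF hι x) {l : F} (hl : l ≠ 0) : Good hF hι (l • x) := by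
  intro c hu hc
  have hx : herm 3 x x = 0 := by
    rw [herm_smul_self hF] at hu
    exact (mul_eq_zero.1 hu).resolve_left (pow_ne_zero _ hl)
  have h8 : l ^ 8 = 1 := by
    have := FiniteField.pow_card_sub_one_eq_one l hl
    rwa [hF] at this
  have hc' : c * l ^ 4 + (c * l ^ 4) ^ 3 = 0 := by linear_combination l ^ 4 * hc + c ^ 3 * l ^ 4 * h8
  have e : tv hF hu hc = tv hF hx hc' := by
    refine eq_of_smul_eq_SU fun y => ?_
    rw [tv_smul, tv_smul, herm_smul_right hF, smul_smul]
    congr 2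
    ring
  rw [e]
  exact h _ _ _

theorem good_gen_smul {x : Fin 4 → F} (h : Good hF hι x) {g : SU 4 F 3}
    (hg : g ∈ (cov hF hι).map (MonoidHom.fst (SU 4 F 3) _)) : Good hF hι (g • x) := by
  intro c hu hc
  have hx : herm 3 x x = 0 := by rwa [herm_smul_SU] at hu
  have := conj_tv hF g hx hc
  rw [← this]
  exact mul_mem (mul_mem hg (h _ _ _)) (inv_mem hg)

theorem good_rep : ∀ n, n < 280 → Good hF hι (vecN ι (repN n)) := by
  intro n
  induction n using Nat.strong_induction_on with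
  | _ n ih =>
    intro hn
    have ht := treeB_true
    simp only [treeB, kallUpTo_iff, forceNat_eq, Bool.or_eq_true, Bool.and_eq_true, Nat.beq_eq,
      Nat.blt_eq] at ht
    rcases ht n hn with rfl | ⟨⟨⟨⟨hp, hs⟩, hl⟩, hl9⟩, hv⟩
    · intro c hu hc
      obtain ⟨g, hg, -, hsm⟩ := exists_lift_gen hF hι (k := 3) (by norm_num)
      obtain ⟨a, b, rfl⟩ := exists_coords hF hι c
      have h3 := three_eq_zero hF
      have hi3 : ι ^ 3 = -ι := by linear_combination ι * hι
      have hch := charP_three hF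
      have ha : (a : F) = 0 := by
        have e : ((a : F) + (b : F) * ι) ^ 3 = (a : F) - (b : F) * ι := by
          rw [add_pow_char, mul_pow, natCast_cube hF, natCast_cube hF, hi3]; ring
        rw [e] at hc
        linear_combination (-1 : F) * hc + (a : F) * h3
      have hu4 : ∀ i : Fin 4, val ι (genU 3 (4 + i)) = (0 : F) := by
        have : ∀ i : Fin 4, genU 3 (4 + i) = 0 := by decide +kernel
        intro i; rw [this, val_zero]
      have hu0 : (fun i : Fin 4 => val ι (genU 3 i)) = vecN ι (repN 0) := by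
        have : ∀ i : Fin 4, genU 3 i = digit (repN 0) i := by decide +kernel
        funext i; rw [this]; rfl
      have hb8 : val ι (genU 3 8) = ι := by
        rw [show genU 3 8 = 3 by decide +kernel, val_three]
      have hι0 : ι + ι ^ 3 = 0 := by rw [hi3, add_neg_cancel]
      have eg : g = tv hF hu hι0 := by
        refine eq_of_smul_eq_SU fun x => ?_
        rw [hsm, tv_smul, hu0, hb8, show (fun i : Fin 4 => val ι (genU 3 (4 + i))) = 0 from
          funext hu4, herm_zero_right hF]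
        simp
      have e : tv hF hu hc = g ^ b := by
        refine eq_of_smul_eq_SU fun x => ?_
        rw [eg, SuMult50.tv_pow_smul hF, tv_smul, ha, zero_add]
      rw [e]
      exact pow_mem (show g ∈ (cov hF hι).map (MonoidHom.fst _ _) from ⟨_, hg, rfl⟩) b
    · obtain ⟨g, hg, hgen, -⟩ := exists_lift_gen hF hι hs
      have hgood := good_gen_smul hF hι (ih _ hp (by omega)) (g := g) ⟨_, hg, rfl⟩
      have he : vecN ι (repN n) =
          val ι (infoN n / 4096) • (g • vecN ι (repN (infoN n % 512))) := by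
        funext r
        simp only [vecN, (hv r r.isLt), val_cmul hF hι, Pi.smul_apply, smul_eq_mul]
        congr 1
        rw [val_csum hF hι]
        simp only [val_cmul hF hι]
        show _ = (mat g *ᵥ _) r
        rw [show mat g = matM ι _ from hgen]
        rfl
      rw [he]
      refine good_smul hF hι hgood fun e0 => ?_
      have := val_inj hF hι hl9 (by norm_num) (e0.trans val_zero.symm)
      omega

theorem fst_cov : (cov hF hι).map (MonoidHom.fst (SU 4 F 3) _) = ⊤ := by
  rw [eq_top_iff, ← tvGroup_empty hF (n := 4) (by norm_num), tvGroup, Subgroup.closure_le]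
  rintro _ ⟨u, c, hu, hc, -, rfl⟩
  by_cases hu0 : u = 0
  · subst hu0
    rw [show tv hF hu hc = 1 from eq_of_smul_eq_SU fun x => by simp [tv_smul]]
    exact one_mem _
  obtain ⟨v, hv, rfl⟩ := exists_vecN hF hι u
  have hcv := coverB_true
  simp only [coverB, kallUpTo_iff, forceNat_eq, Bool.or_eq_true, Bool.and_eq_true, Nat.beq_eq,
    Nat.blt_eq, Bool.not_eq_true', ← Bool.not_eq_true] at hcv
  rcases hcv v hv with (rfl | h0) | ⟨hn, hent⟩
  · exact absurd (funext fun i => by simp [vecN, digit, val_zero]) hu0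
  · refine absurd (val_inj hF hι (by unfold csum cadd; omega) (by norm_num) ?_) h0
    rw [← herm_val hF hι, val_zero]
    exact hu
  · have e : vecN ι v = val ι (idxN v % 16) • vecN ι (repN (idxN v / 16)) := by
      funext r
      simp only [vecN, hent r r.isLt, val_cmul hF hι, Pi.smul_apply, smul_eq_mul]
    refine (?_ : Good hF hι (vecN ι v)) c hu hc
    rw [e]
    refine good_smul hF hι (good_rep hF hι _ hn) fun e0 => hu0 ?_
    rw [e, e0, zero_smul]

/-- The cover. -/
def tau : ↥⁅cov hF hι, cov hF hι⁆ →* SU 4 F 3 :=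
  (MonoidHom.fst (SU 4 F 3) (Equiv.Perm Pt × Equiv.Perm Pt)).comp
    ⁅cov hF hι, cov hF hι⁆.subtype

theorem tau_stem : Cfsg.IsStemExtension (tau hF hι) := by
  refine stem_derived _ (cov hF hι) (perfect_SU hF) (fst_cov hF hι) ?_
  rintro ⟨g, p, p'⟩ ⟨h1, h2⟩ (rfl : g = 1) ⟨g', r, r'⟩ ⟨k1, k2⟩
  obtain ⟨e, rfl⟩ := compat_one_eq hF hι (by rwa [mat_one] at h1)
  obtain ⟨e', rfl⟩ := compat_one_eq hF hι (by rwa [mat'_one hF hι] at h2)
  exact Prod.ext (Commute.one_left g').eq
    (Prod.ext (sh_commute k1 e).eq (sh_commute k2 e').eq)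

omit [Fintype F] hF hι in
theorem gen_comm {a b : ℕ} {g g' : SU 4 F 3} (hg : IsGen ι a g) (hg' : IsGen ι b g')
    (h : ∀ r : Fin 4, ∀ c : Fin 4, (matM ι a * matM ι b) r c = (matM ι b * matM ι a) r c) :
    g * g' = g' * g := by
  refine Subtype.ext (Subtype.ext ?_)
  show mat g * mat g' = mat g' * mat g
  rw [show mat g = _ from hg, show mat g' = _ from hg']
  exact Matrix.ext h

theorem kernel_two : ((1 : SU 4 F 3), sh 2, sh 1) ∈ ⁅cov hF hι, cov hF hι⁆ ∧
    ((1 : SU 4 F 3), sh 1, sh 1) ∈ ⁅cov hF hι, cov hF hι⁆ := by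
  have hc := commB_true
  simp only [commB, kallUpTo_iff, Bool.and_eq_true, Nat.beq_eq] at hc
  have hmat : ∀ a b : ℕ, (∀ r < 4, ∀ c < 4, csum (fun l => cmul (mEnt a r l) (mEnt b l c)) =
      csum fun l => cmul (mEnt b r l) (mEnt a l c)) →
      ∀ r : Fin 4, ∀ c : Fin 4, (matM ι a * matM ι b) r c = (matM ι b * matM ι a) r c := by
    intro a b h r c
    have e := congrArg (val ι) (h r r.isLt c c.isLt)
    simp only [val_csum hF hι, val_cmul hF hι] at e
    simpa [Matrix.mul_apply, matM] using e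
  obtain ⟨g0, h0, hg0, -⟩ := exists_lift_gen hF hι (k := 0) (by norm_num)
  obtain ⟨g1, h1, hg1, -⟩ := exists_lift_gen hF hι (k := 1) (by norm_num)
  obtain ⟨g2, h2, hg2, -⟩ := exists_lift_gen hF hι (k := 2) (by norm_num)
  have key : ∀ (g g' : SU 4 F 3) (p p' q q' : Equiv.Perm Pt) (e e' : ZMod 3),
      (g, p, p') ∈ cov hF hι → (g', q, q') ∈ cov hF hι → g * g' = g' * g →
      p * q = sh e * (q * p) → p' * q' = sh e' * (q' * p') →
      ((1 : SU 4 F 3), sh e, sh e') ∈ ⁅cov hF hι, cov hF hι⁆ := by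
    intro g g' p p' q q' e e' hx hy hg he he'
    have := Subgroup.commutator_mem_commutator hx hy
    convert this using 1
    refine Prod.ext ?_ (Prod.ext ?_ ?_)
    · show 1 = g * g' * g⁻¹ * g'⁻¹
      rw [hg]; group
    · show sh e = p * q * p⁻¹ * q⁻¹
      rw [he]; group
    · show sh e' = p' * q' * p'⁻¹ * q'⁻¹
      rw [he']; group
  refine ⟨key _ _ _ _ _ _ _ _ h0 h2 (gen_comm hg0 hg2 (hmat 0 2 fun r hr c hc' =>
      (hc r hr c hc').1)) ?_ ?_,
    key _ _ _ _ _ _ _ _ h1 h2 (gen_comm hg1 hg2 (hmat 1 2 fun r hr c hc' =>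
      (hc r hr c hc').2)) ?_ ?_⟩
  · exact shift_comm (a := 0) (b := 2) (e := 2) shift02.1
  · exact (shift_comm (a := 5) (b := 7) (e := 1) shift02.2).trans (by rw [Nat.cast_one]; rfl)
  · exact (shift_comm (a := 1) (b := 2) (e := 1) shift12.1).trans (by rw [Nat.cast_one]; rfl)
  · exact (shift_comm (a := 6) (b := 7) (e := 1) shift12.2).trans (by rw [Nat.cast_one]; rfl)

theorem nine_le : 9 ≤ Nat.card (tau hF hι).ker := by
  obtain ⟨hA, hB⟩ := kernel_two hF hι
  set A : SU 4 F 3 × Equiv.Perm Pt × Equiv.Perm Pt := (1, sh 2, sh 1)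
  set B : SU 4 F 3 × Equiv.Perm Pt × Equiv.Perm Pt := (1, sh 1, sh 1)
  let f : Fin 3 × Fin 3 → (tau hF hι).ker := fun ab =>
    ⟨⟨A ^ (ab.1 : ℕ) * B ^ (ab.2 : ℕ), mul_mem (pow_mem hA _) (pow_mem hB _)⟩, by
      simp [MonoidHom.mem_ker, tau, A, B]⟩
  have hf : Function.Injective f := by
    intro x y e
    have e1 := congrArg (fun z : (tau hF hι).ker => (z.1.1.2.1 ((0 : Fin 126), (0 : ZMod 3)),
      z.1.1.2.2 ((0 : Fin 126), (0 : ZMod 3)))) e
    simp only [f, A, B, Prod.pow_mk, Prod.mk_mul_mk] at e1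
    clear e
    revert e1
    revert x y
    decide +kernel
  have := Nat.card_le_card_of_injective f hf
  simpa using this

omit hι in
/-- **The multiplier of `PSU_4(3)`.** -/
theorem hasSchurMultiplier_PSU :
    Cfsg.HasSchurMultiplier (Cfsg.PSU 4 F 3) (Multiplicative (ZMod 4 × ZMod 3 × ZMod 3)) := by
  obtain ⟨ι, hι⟩ := exists_iota hF
  exact hasSchurMultiplier_of_cover9 hF (tau hF hι) (tau_stem hF hι) (nine_le hF hι)

end Cfsg.Agent.U43Mult50
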