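import Cfsg.Agent.U43Mult50.Table
import Cfsg.Agent.Lib.CosetEnum.Pack
import Cfsg.Agent.Lib.ChevCore.Eval

/-!
The certificate of the two threefold covers of `SU_4(3)`, checked by the kernel (helper50).
-/

set_option autoImplicit false

namespace Cfsg.Agent.U43Mult50

open Cfsg.Agent.ChevCore Cfsg.Agent.CosetEnum

/-- The field of nine elements on the numbers `a + 3b`, standing for `a + bι`. -/
def cadd (a b : ℕ) : ℕ := (a % 3 + b % 3) % 3 + 3 * ((a / 3 + b / 3) % 3)

/-- The product. -/
def cmul (a b : ℕ) : ℕ :=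
  (a % 3 * (b % 3) + 2 * (a / 3 * (b / 3))) % 3 + 3 * ((a % 3 * (b / 3) + a / 3 * (b % 3)) % 3)

/-- The negative. -/
def cneg (a : ℕ) : ℕ := 2 * (a % 3) % 3 + 3 * (2 * (a / 3) % 3)

/-- The conjugate. -/
def cbar (a : ℕ) : ℕ := a % 3 + 3 * (2 * (a / 3) % 3)

/-- The sum of four numbers. -/
def csum (f : ℕ → ℕ) : ℕ := cadd (cadd (f 0) (f 1)) (cadd (f 2) (f 3))

/-- A coordinate of a coded vector. -/
def digit (v k : ℕ) : ℕ := v / 9 ^ k % 9

/-- An entry of a generator. -/
def mEnt (k r c : ℕ) : ℕ := (mTab.getD k 0 >>> (4 * (4 * r + c))) % 16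

/-- The position of an entry above the diagonal. -/
def slot (a b : ℕ) : ℕ := if a = 0 then b - 1 else if a = 1 then b + 1 else 5

/-- An entry of an alternating matrix. -/
def jEnt (i a b : ℕ) : ℕ :=
  if a < b then digit ((jTab >>> (20 * i)) % 2 ^ 20) (slot a b)
  else if b < a then cneg (digit ((jTab >>> (20 * i)) % 2 ^ 20) (slot b a)) else 0

/-- The permutations. -/
def piN (k i : ℕ) : ℕ := (piTab.getD k 0 >>> (7 * i)) % 128

/-- Their inverses. -/
def pinvN (k i : ℕ) : ℕ := (pinvTab.getD k 0 >>> (7 * i)) % 128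

/-- The phases. -/
def cN (k i : ℕ) : ℕ := (cTab.getD k 0 >>> (2 * i)) % 4

/-- The factors. -/
def sN (k i : ℕ) : ℕ := (sTab.getD k 0 >>> (4 * i)) % 16

/-- The inner products. -/
def tN (i j : ℕ) : ℕ := (tTab >>> (2 * (126 * i + j))) % 4

/-- A line. -/
def repN (n : ℕ) : ℕ := (repTab >>> (13 * n)) % 8192

/-- The tree. -/
def infoN (n : ℕ) : ℕ := (infoTab >>> (16 * n)) % 65536

/-- The line of a vector. -/
def idxN (v : ℕ) : ℕ := (idxTab.getD (v / 81) 0 >>> (13 * (v % 81))) % 8192

/-- A generator datum. -/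
def genU (k i : ℕ) : ℕ := (genTab.getD k 0 >>> (4 * i)) % 16

/-- An entry of the matrix of a generator from its datum. -/
def qelEnt (k r c : ℕ) : ℕ :=
  cadd (if r = c then 1 else 0)
    (cadd (cadd (cmul (cbar (genU k c)) (genU k (4 + r)))
        (cneg (cmul (cbar (genU k (4 + c))) (genU k r))))
      (cmul (cmul (genU k 8) (cbar (genU k c))) (genU k r)))

/-- The conjugating diagonal matrix. -/
def dN (r : ℕ) : ℕ := if r = 0 then 3 else 1

/-- Its inverse. -/
def dInvN (r : ℕ) : ℕ := if r = 0 then 6 else 1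

/-- The data of a generator. -/
noncomputable def genB : Bool :=
  kallUpTo 5 fun k =>
    Nat.beq (csum fun i => cmul (genU k i) (cbar (genU k i))) 0 &&
    Nat.beq (csum fun i => cmul (genU k (4 + i)) (cbar (genU k i))) 0 &&
    Nat.beq (cadd (genU k 8) (cbar (genU k 8)))
      (cneg (csum fun i => cmul (genU k (4 + i)) (cbar (genU k (4 + i))))) &&
    kallUpTo 4 fun r => kallUpTo 4 fun c =>
      Nat.beq (mEnt k r c) (qelEnt k r c) &&
      Nat.beq (mEnt (k + 5) r c) (cmul (cmul (dN r) (mEnt k r c)) (dInvN c))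

/-- The permutations are bijections. -/
noncomputable def permB : Bool :=
  kallUpTo 10 fun k => kallUpTo 126 fun i =>
    Nat.blt (piN k i) 126 && Nat.blt (pinvN k i) 126 &&
    Nat.beq (pinvN k (piN k i)) i && Nat.beq (piN k (pinvN k i)) i

/-- The inner products are preserved. -/
noncomputable def invB : Bool :=
  kallUpTo 10 fun k => forceNat (piTab.getD k 0) fun P => forceNat (cTab.getD k 0) fun C =>
    kallUpTo 126 fun i => forceNat ((P >>> (7 * i)) % 128) fun pi =>
      forceNat ((C >>> (2 * i)) % 4) fun ci =>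
      kallUpTo 126 fun j => forceNat (tN i j) fun t =>
        forceNat (tN pi ((P >>> (7 * j)) % 128)) fun t' =>
        (Nat.beq t 0 && Nat.beq t' 0) ||
          (!Nat.beq t 0 && !Nat.beq t' 0 &&
            Nat.beq ((t' + ci + 2 * ((C >>> (2 * j)) % 4)) % 3) (t % 3))

/-- The alternating matrices are permuted. -/
noncomputable def altB : Bool :=
  kallUpTo 10 fun k => kallUpTo 126 fun i => forceNat (piN k i) fun pi =>
    forceNat (sN k i) fun s => !Nat.beq s 0 && Nat.blt s 9 &&
    kallUpTo 4 fun a => kallUpTo 4 fun b => Nat.ble b a ||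
      Nat.beq (csum fun l => cmul (csum fun m => cmul (mEnt k a m) (jEnt i m l)) (mEnt k b l))
        (cmul s (jEnt pi a b))

/-- The alternating matrices are not proportional. -/
noncomputable def sepB : Bool :=
  kallUpTo 126 fun i => kallUpTo 126 fun j => Nat.beq i j ||
    kanyUpTo 6 fun m => kanyUpTo 6 fun m' =>
      forceNat ((jTab >>> (20 * i)) % 2 ^ 20) fun v =>
      forceNat ((jTab >>> (20 * j)) % 2 ^ 20) fun w =>
        !Nat.beq (cmul (digit v m) (digit w m')) (cmul (digit v m') (digit w m))

/-- The roots are linked. -/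
noncomputable def linkB : Bool :=
  kallUpTo 126 fun i => !Nat.beq (tN i 0) 0 || !Nat.beq (tN i 1) 0 || !Nat.beq (tN i 2) 0 ||
    !Nat.beq (tN i 3) 0 || !Nat.beq (tN i 5) 0

/-- The hubs are linked to the first root. -/
noncomputable def hubB : Bool :=
  !Nat.beq (tN 1 0) 0 && !Nat.beq (tN 2 0) 0 && !Nat.beq (tN 3 0) 0 && !Nat.beq (tN 5 0) 0

/-- The tree on the lines. -/
noncomputable def treeB : Bool :=
  kallUpTo 280 fun n => Nat.beq n 0 || forceNat (infoN n) fun x =>
    forceNat (repN (x % 512)) fun p => forceNat (repN n) fun v =>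
      Nat.blt (x % 512) n && Nat.blt (x / 512 % 8) 5 && Nat.blt 0 (x / 4096) && Nat.blt (x / 4096) 9 &&
      kallUpTo 4 fun r => Nat.beq (digit v r)
        (cmul (x / 4096) (csum fun c => cmul (mEnt (x / 512 % 8) r c) (digit p c)))

/-- The isotropic vectors lie on the lines. -/
noncomputable def coverB : Bool :=
  kallUpTo 6561 fun v => Nat.beq v 0 ||
    !Nat.beq (csum fun i => cmul (digit v i) (cbar (digit v i))) 0 ||
    forceNat (idxN v) fun x => Nat.blt (x / 16) 280 &&
      kallUpTo 4 fun r => Nat.beq (digit v r) (cmul (x % 16) (digit (repN (x / 16)) r))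

/-- The commutators of three lifts. -/
noncomputable def commB : Bool :=
  kallUpTo 4 fun r => kallUpTo 4 fun c =>
    Nat.beq (csum fun l => cmul (mEnt 0 r l) (mEnt 2 l c))
      (csum fun l => cmul (mEnt 2 r l) (mEnt 0 l c)) &&
    Nat.beq (csum fun l => cmul (mEnt 1 r l) (mEnt 2 l c))
      (csum fun l => cmul (mEnt 2 r l) (mEnt 1 l c))

/-- The shift in a commutator of two lifts. -/
noncomputable def shiftB (a b e : ℕ) : Bool :=
  kallUpTo 126 fun i => Nat.beq (piN a (piN b i)) (piN b (piN a i)) &&
    Nat.beq ((cN b i + cN a (piN b i)) % 3) ((e + cN a i + cN b (piN a i)) % 3)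

theorem genB_true : genB = true := by decide +kernel

theorem permB_true : permB = true := by decide +kernel

theorem invB_true : invB = true := by decide +kernel

theorem altB_true : altB = true := by decide +kernel

theorem sepB_true : sepB = true := by decide +kernel

theorem linkB_true : linkB = true := by decide +kernel

theorem hubB_true : hubB = true := by decide +kernel

theorem treeB_true : treeB = true := by decide +kernel

theorem coverB_true : coverB = true := by decide +kernel

theorem commB_true : commB = true := by decide +kernel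

theorem shift02 : shiftB 0 2 2 = true ∧ shiftB 5 7 1 = true := by decide +kernel

theorem shift12 : shiftB 1 2 1 = true ∧ shiftB 6 7 1 = true := by decide +kernel

end Cfsg.Agent.U43Mult50
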