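import Cfsg.Agent.SuMult50.Main

/-!
The bound for the multiplier of `SU_4(3)` (helper50).
-/

set_option autoImplicit false

namespace Cfsg.Agent.U43Mult50

open Matrix Cfsg.Agent.Unitary Cfsg.Agent.CharB.PSLMult Cfsg.Agent.SuMult50
open scoped commutatorElement

universe v w

/-- The derived subgroup of a subgroup covering a perfect group centrally is a stem extension. -/
theorem stem_derived {A : Type w} {S : Type v} [Group A] [Group S] (f : A →* S) (P : Subgroup A)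
    (hS : commutator S = ⊤) (hsurj : P.map f = ⊤)
    (hcen : ∀ x ∈ P, f x = 1 → ∀ y ∈ P, Commute x y) :
    Cfsg.IsStemExtension (f.comp ⁅P, P⁆.subtype) := by
  have hle : ⁅P, P⁆ ≤ P := P.commutator_le_self
  have hmap : (⁅P, P⁆ : Subgroup A).map f = ⊤ := by
    rw [Subgroup.map_commutator, hsurj, ← _root_.commutator_def, hS]
  have hperf : ⁅P, P⁆ ≤ ⁅⁅P, P⁆, ⁅P, P⁆⁆ := by
    rw [Subgroup.commutator_le]
    intro a ha b hb
    obtain ⟨a', ha', ea⟩ := (hmap.symm ▸ Subgroup.mem_top (f a) : f a ∈ (⁅P, P⁆ : Subgroup A).map f)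
    obtain ⟨b', hb', eb⟩ := (hmap.symm ▸ Subgroup.mem_top (f b) : f b ∈ (⁅P, P⁆ : Subgroup A).map f)
    have hz : ∀ y ∈ P, Commute (a'⁻¹ * a) y :=
      hcen _ (mul_mem (inv_mem (hle ha')) ha) (by simp [ea])
    have hw : ∀ y ∈ P, Commute (b'⁻¹ * b) y :=
      hcen _ (mul_mem (inv_mem (hle hb')) hb) (by simp [eb])
    have e1 : ⁅a, b⁆ = ⁅a', b⁆ := by
      conv_lhs => rw [show a = a' * (a'⁻¹ * a) by group]
      simp only [commutatorElement_def]
      calc a' * (a'⁻¹ * a) * b * (a' * (a'⁻¹ * a))⁻¹ * b⁻¹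
          = a' * ((a'⁻¹ * a) * b) * (a'⁻¹ * a)⁻¹ * a'⁻¹ * b⁻¹ := by group
        _ = _ := by rw [(hz b hb).eq]; group
    have e2 : ⁅a', b⁆ = ⁅a', b'⁆ := by
      conv_lhs => rw [show b = b' * (b'⁻¹ * b) by group]
      simp only [commutatorElement_def]
      calc a' * (b' * (b'⁻¹ * b)) * a'⁻¹ * (b' * (b'⁻¹ * b))⁻¹
          = a' * b' * ((b'⁻¹ * b) * a'⁻¹) * (b'⁻¹ * b)⁻¹ * b'⁻¹ := by group
        _ = _ := by rw [(hw _ (inv_mem (hle ha'))).eq]; group
    rw [e1, e2]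
    exact Subgroup.commutator_mem_commutator ha' hb'
  refine ⟨fun s => ?_, fun x hx => ?_, fun x _ => ?_⟩
  · obtain ⟨a, ha, rfl⟩ := (hmap.symm ▸ Subgroup.mem_top s : s ∈ (⁅P, P⁆ : Subgroup A).map f)
    exact ⟨⟨a, ha⟩, rfl⟩
  · exact Subgroup.mem_center_iff.2 fun y =>
      Subtype.ext (hcen x (hle x.2) hx y (hle y.2)).symm.eq
  · have h2 := hperf x.2
    rw [← Subgroup.map_subtype_commutator] at h2
    obtain ⟨y, hy, e⟩ := h2
    rwa [← Subtype.ext e]

variable {F : Type v} [Field F] [Fintype F] {n q : ℕ} (hF : Fintype.card F = q ^ 2)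
include hF

/-- A torus stable section over a long root group, `q ≥ 3`. -/
theorem exists_zsplit {Γ : Type v} [Group Γ] {σ : Γ →* SU n F q} (E : CEx σ) (hn : 3 ≤ n)
    (h3 : 3 ≤ q) (P : Frame n F q) :
    ∃ Z0, ZSplit hF P σ Z0 := by
  classical
  obtain ⟨s, hsq, hs0, hs1⟩ := exists_fixed_ne hF h3
  obtain ⟨l, hl⟩ := exists_norm_eq hF hsq
  have hl0 : l ≠ 0 := fun h => by
    rw [h, zero_pow q.succ_ne_zero] at hl
    exact hs0 hl.symm
  obtain ⟨r, hr⟩ : ∃ r, r ∉ P.pair := by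
    by_contra h
    have h' : (Finset.univ : Finset (Fin n)) ⊆ P.pair := fun r _ => not_not.1 fun hr => h ⟨r, hr⟩
    have := Finset.card_le_card h'
    rw [Finset.card_univ, Fintype.card_fin, Frame.pair, Finset.card_pair P.hij] at this
    omega
  set a : Fin n → F := fun i => if i = r then l ^ q / l else 1 with hadef
  obtain ⟨t0, ht0⟩ := P.exists_tor hF (l := l) (a := a) hl0
    (fun i => by
      simp only [hadef]
      split_ifs
      · rw [div_pow, ← pow_mul, mul_comm q, pow_mul, norm_fixed hF,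
          div_self (pow_ne_zero _ hl0)]
      · exact one_pow _)
    (fun i hi => if_neg fun h : i = r => hr (h ▸ hi))
    (by
      simp only [hadef]
      rw [Finset.prod_ite_eq', if_pos (Finset.mem_univ r)]
      field_simp)
  obtain ⟨D, rfl⟩ := E.surj t0
  have hzc : ∀ x y : Γ, σ x ∈ P.qg hF ∅ → σ y ∈ P.zgrp hF → Commute x y := by
    rintro x y hx ⟨c, hc⟩
    exact E.commute_of_cm (P.cm_qg_zero hF E hn (Or.inr h3) hc hx).2
  have hconjz : ∀ (k y : Γ) (l' : F) (a' : Fin n → F), P.IsTor (σ k) l' a' → σ y ∈ P.zgrp hF →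
      σ (k * y * k⁻¹) ∈ P.zgrp hF := by
    rintro k y l' a' hk ⟨c, hc⟩
    exact ⟨_, by rw [map_mul, map_mul, map_inv]; exact P.tor_zero_conj hk hc hF⟩
  have hcz : ∀ y : Γ, σ y ∈ P.zgrp hF → σ ⁅D, y⁆ ∈ P.zgrp hF := fun y hy => by
    rw [commutatorElement_def, map_mul, map_inv]
    exact mul_mem (hconjz D y l a ht0 hy) (inv_mem hy)
  let Z0 : Subgroup Γ :=
    { carrier := {g | ∃ y : Γ, σ y ∈ P.zgrp hF ∧ g = ⁅D, y⁆}
      one_mem' := ⟨1, by rw [map_one]; exact one_mem _, by simp⟩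
      mul_mem' := by
        rintro _ _ ⟨y, hy, rfl⟩ ⟨y', hy', rfl⟩
        refine ⟨y * y', by rw [map_mul]; exact mul_mem hy hy', ?_⟩
        have hc := hzc ⁅D, y'⁆ y (P.zgrp_le_qg hF (hcz y' hy')) hy
        calc ⁅D, y⁆ * ⁅D, y'⁆ = ⁅D, y⁆ * (y * ⁅D, y'⁆ * y⁻¹) := by rw [← hc.eq]; group
          _ = ⁅D, y * y'⁆ := by simp only [commutatorElement_def]; group
      inv_mem' := by
        rintro _ ⟨y, hy, rfl⟩
        refine ⟨y⁻¹, by rw [map_inv]; exact inv_mem hy, inv_eq_of_mul_eq_one_right ?_⟩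
        have hy' : σ y⁻¹ ∈ P.zgrp hF := by rw [map_inv]; exact inv_mem hy
        have hc := hzc ⁅D, y⁻¹⁆ y (P.zgrp_le_qg hF (hcz _ hy')) hy
        calc ⁅D, y⁆ * ⁅D, y⁻¹⁆ = ⁅D, y⁆ * (y * ⁅D, y⁻¹⁆ * y⁻¹) := by rw [← hc.eq]; group
          _ = 1 := by simp only [commutatorElement_def]; group }
  have hne : l ^ (q + 1) - 1 ≠ 0 := by rw [hl]; exact sub_ne_zero.2 hs1
  have hq : ∀ (y : Γ) (c : F), P.IsQ (σ y) 0 c → P.IsQ (σ ⁅D, y⁆) 0 ((l ^ (q + 1) - 1) * c) := by
    intro y c hc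
    rw [commutatorElement_def, map_mul, map_mul, map_mul, map_inv, map_inv]
    refine P.isQ_congr (P.isQ_mul hF (zero_mem _) (neg_mem (zero_mem _))
      (P.tor_zero_conj ht0 hc hF) (P.isQ_inv hF (zero_mem _) hc)) (by simp) ?_
    rw [neg_zero, herm_zero_left]
    ring
  have S : ZSplit hF P σ Z0 :=
    { ext := E
      three := hn
      wide := Or.inr h3
      inj := by
        rintro _ ⟨y, ⟨c, hc⟩, rfl⟩ h1
        have h2 := hq y c hc
        rw [h1] at h2
        obtain ⟨-, h3'⟩ := P.isQ_inj hF (zero_mem _) (zero_mem _) (P.isQ_one hF) h2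
        have hc0 : c = 0 := (mul_eq_zero.1 h3'.symm).resolve_left hne
        have hk : y ∈ σ.ker := P.isQ_unique (hc0 ▸ hc) (P.isQ_one hF)
        rw [commutatorElement_eq_one_iff_mul_comm]
        exact Subgroup.mem_center_iff.1 (E.central hk) D
      map := by
        refine le_antisymm ?_ ?_
        · rintro _ ⟨_, ⟨y, hy, rfl⟩, rfl⟩
          exact hcz y hy
        rintro g ⟨c, hc⟩
        have hct := P.isQ_trace hF (zero_mem _) hc
        rw [herm_zero_left, neg_zero] at hct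
        obtain ⟨g', hg'⟩ := P.exists_isQ hF (w := 0) (b := c / (l ^ (q + 1) - 1)) (zero_mem _) (by
          rw [div_pow, sub_pow_q hF, norm_fixed hF, one_pow, ← add_div, hct, zero_div,
            herm_zero_left, neg_zero])
        obtain ⟨y, rfl⟩ := E.surj g'
        refine ⟨⁅D, y⁆, ⟨y, ⟨_, hg'⟩, rfl⟩, P.isQ_unique (hq y _ hg') ?_⟩
        rwa [mul_div_cancel₀ _ hne]
      tor := by
        rintro k l' a' hk _ ⟨y, hy, rfl⟩
        refine ⟨k * y * k⁻¹, hconjz k y l' a' hk hy, ?_⟩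
        obtain ⟨c, hc, hce⟩ := E.exists_central (a := k * D * k⁻¹) (a' := D) (by
          rw [map_mul, map_mul, map_inv, (P.tor_comm hF hk ht0).eq, mul_inv_cancel_right])
        rw [show k * ⁅D, y⁆ * k⁻¹ = ⁅k * D * k⁻¹, k * y * k⁻¹⁆ by
            simp only [commutatorElement_def]; group,
          hce, ← mul_one (k * y * k⁻¹),
          Cfsg.Agent.Schur.commutatorElement_mul_central hc (one_mem _), mul_one] }
  exact ⟨Z0, S⟩

end Cfsg.Agent.U43Mult50
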