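import Cfsg.Agent.U43Mult50.Split

/-!
A stem extension of `SU_4(3)` has kernel generated by two elements of order dividing `3` (helper50).
-/

set_option autoImplicit false

namespace Cfsg.Agent.U43Mult50

open Matrix Cfsg.Agent.Unitary Cfsg.Agent.CharB.PSLMult Cfsg.Agent.SuMult50
open scoped commutatorElement

universe v w

variable {F : Type v} [Field F] [Fintype F] (hF : Fintype.card F = 3 ^ 2)
include hF

theorem three_eq_zero : (3 : F) = 0 := by
  have h := Nat.cast_card_eq_zero F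
  rw [hF] at h
  have e : (3 : F) ^ 2 = 0 := by rw [← h]; norm_num
  exact eq_zero_of_pow_eq_zero e

theorem exists_iota : ∃ ι : F, ι * ι = -1 := by
  obtain ⟨ι, hι⟩ := (FiniteField.isSquare_neg_one_iff (F := F)).2 (by rw [hF]; norm_num)
  exact ⟨ι, hι.symm⟩

theorem exists_coords {ι : F} (hι : ι * ι = -1) (x : F) : ∃ a b : ℕ, x = (a : F) + (b : F) * ι := by
  classical
  have h3 := three_eq_zero hF
  have : CharP F 3 := (CharP.charP_iff_prime_eq_zero Nat.prime_three).2 (by exact_mod_cast h3)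
  let f : ZMod 3 × ZMod 3 → F := fun p => (p.1.val : F) + (p.2.val : F) * ι
  have hcast : ∀ (a : ZMod 3), (a.val : F) = ZMod.castHom (dvd_refl 3) F a := fun a => by
    rw [ZMod.castHom_apply, ZMod.natCast_val]
  have hinj : Function.Injective f := by
    rintro ⟨a, b⟩ ⟨c, d⟩ h
    simp only [f, hcast] at h
    set g := ZMod.castHom (dvd_refl 3) F
    have h' : g (a - c) = g (d - b) * ι := by rw [map_sub, map_sub]; linear_combination h
    have h'' : g ((a - c) * (a - c) + (d - b) * (d - b)) = g 0 := by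
      rw [map_add, map_mul, map_mul, map_zero, h']
      linear_combination (g (d - b) * g (d - b)) * hι
    have key : ∀ u v : ZMod 3, u * u + v * v = 0 → u = 0 ∧ v = 0 := by decide
    obtain ⟨h1, h2⟩ := key _ _ (g.injective h'')
    rw [sub_eq_zero] at h1 h2
    rw [h1, ← h2]
  have hbij : Function.Bijective f :=
    (Fintype.bijective_iff_injective_and_card f).2
      ⟨hinj, by rw [hF, Fintype.card_prod, ZMod.card]; norm_num⟩
  obtain ⟨⟨a, b⟩, rfl⟩ := hbij.2 x
  exact ⟨a.val, b.val, rfl⟩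

theorem card_SU_four_three : Nat.card (SU 4 F 3) = 729 * 17920 := by
  rw [card_SU_four hF]; norm_num

/-- The lifted Sylow subgroup splits once the exceptional form vanishes. -/
theorem not_three_dvd {Γ : Type v} [Group Γ] [Finite Γ] {σ : Γ →* SU 4 F 3}
    (hσ : Cfsg.IsStemExtension σ) (P P₁ : Frame 4 F 3) (hP : P.pair = {0, 1})
    (hP₁ : P₁.pair = {2, 3}) {Z0 : Subgroup Γ} (S : ZSplit hF P σ Z0)
    (hform : ∀ x y : F, S.form (x • eI 2) (y • eI 3) = 1) : ¬ 3 ∣ Nat.card σ.ker := by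
  classical
  have E : CEx σ := ⟨hσ.1, hσ.2.1⟩
  have h2 : (2 : Fin 4) ∉ P.pair := by rw [hP]; decide
  have h3' : (3 : Fin 4) ∉ P.pair := by rw [hP]; decide
  have hcomm : ∀ a b : Γ, σ a ∈ P.qg hF ∅ → σ b ∈ P.qg hF ∅ → ⁅a, b⁆ ∈ Z0 := fun a b ha hb =>
    S.comm_mem_section (fun k r hk hr hkr x y => by
      rw [hP] at hk hr
      have : (k = 2 ∧ r = 3) ∨ (k = 3 ∧ r = 2) := by revert k r; decide
      rcases this with ⟨rfl, rfl⟩ | ⟨rfl, rfl⟩
      · exact hform x y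
      · refine Subtype.ext ?_
        rw [S.form_inv (Submodule.smul_mem _ _ (eI_mem_supp h2))
          (Submodule.smul_mem _ _ (eI_mem_supp h3')), hform, Subgroup.coe_one, inv_one])
      (fun k hk x y => S.piece_diag le_rfl hk x y) ha hb
  obtain ⟨μ, hμq, hμ0, hμ1⟩ := exists_fixed_ne hF le_rfl
  obtain ⟨t1, ht1⟩ := P.exists_tor₀ hF hμ0 hμq
  obtain ⟨d, rfl⟩ := hσ.1 t1
  have hd : P.IsMover σ d :=
    ⟨μ, 1, ht1, fun m _ => by rw [Pi.one_apply, mul_one, hμq]; exact hμ1⟩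
  set X := S.comp hcomm hd with hX
  obtain ⟨Z1, S1⟩ := exists_zsplit hF E (by norm_num) le_rfl P₁
  have hfix : ∀ g ∈ P₁.zgrp hF, g ∈ fixS P.pair := by
    intro g hg
    rw [Frame.zgrp] at hg
    obtain ⟨c, hc⟩ := hg
    rw [mem_fixS]
    intro i hi
    have hi1 : i ∉ P₁.pair := by
      rw [hP₁]; rw [hP] at hi; revert i; decide
    rw [hc, (P₁.perp_u hF (eI_mem_supp hi1)).1]
    simp [herm_zero_right hF]
  have hk : ∀ k ∈ Z1, σ k ∈ fixS P.pair := fun k hk => hfix _ (S1.map ▸ ⟨k, hk, rfl⟩)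
  have hqg : ∀ k : Γ, σ k ∈ fixS P.pair → ∀ x : Γ, σ x ∈ P.qg hF ∅ → σ (k * x * k⁻¹) ∈ P.qg hF ∅ := by
    intro k hk x hx
    rw [map_mul, map_mul, map_inv]
    exact P.qg_conj hF (by simpa using hk) hx
  -- the long root section is centralised by the second plane
  have hfixZ : ∀ k : Γ, σ k ∈ fixS P.pair → ∀ z ∈ Z0, k * z * k⁻¹ = z := by
    intro k hk z hz
    obtain ⟨c, hc⟩ : σ z ∈ P.zgrp hF := S.map ▸ ⟨z, hz, rfl⟩
    have hct := P.isQ_trace hF (zero_mem _) hc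
    rw [herm_zero_left, neg_zero] at hct
    obtain ⟨v, w, ⟨x, rfl⟩, rfl, hvw⟩ := eI_trace_zero_pair hF (r := (2 : Fin 4)) hct
    have hv : x • (eI 2 : Fin 4 → F) ∈ supp P.pair := Submodule.smul_mem _ _ (eI_mem_supp h2)
    have hw : (eI 2 : Fin 4 → F) ∈ supp P.pair := eI_mem_supp h2
    obtain ⟨a, β, ha⟩ := S.exists_lift hv
    obtain ⟨b, β', hb⟩ := S.exists_lift hw
    have ha' : σ a ∈ P.qg hF ∅ := ⟨_, β, by simpa using hv, ha⟩
    have hb' : σ b ∈ P.qg hF ∅ := ⟨_, β', by simpa using hw, hb⟩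
    have h1 : σ ⁅a, b⁆ = σ z := by
      rw [map_commutatorElement, commutatorElement_def]
      exact P.isQ_unique (P.isQ_congr (P.isQ_comm hF hv hw ha hb) rfl hvw) hc
    have ez : ⁅a, b⁆ = z := mul_inv_eq_one.1
      (S.inj _ (mul_mem (hcomm a b ha' hb') (inv_mem hz)) (by simp [h1]))
    have h4 : k * z * k⁻¹ ∈ Z0 := by
      rw [← ez, show k * ⁅a, b⁆ * k⁻¹ = ⁅k * a * k⁻¹, k * b * k⁻¹⁆ by
        simp only [commutatorElement_def]; group]
      exact hcomm _ _ (hqg k hk a ha') (hqg k hk b hb')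
    refine mul_inv_eq_one.1 (S.inj _ (mul_mem h4 (inv_mem hz)) ?_)
    rw [map_mul, map_mul, map_mul, map_inv, map_inv, (P.fix_zero_comm hF hk hc).eq]
    simp
  have hnorm : ∀ k ∈ Z1, ∀ x ∈ X, k * x * k⁻¹ ∈ X := by
    intro k hk' x hx
    obtain ⟨z, hz, y, hy, rfl⟩ := hx
    refine ⟨z, hz, k * y * k⁻¹, hqg k (hk k hk') y hy, ?_⟩
    have hgd : Commute (σ k) (σ d) := P.tor_fix_comm hF ht1 (hk k hk')
    obtain ⟨c, hc, hce⟩ := E.exists_central (a := k * d * k⁻¹) (a' := d) (by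
      rw [map_mul, map_mul, map_inv, hgd.eq, mul_inv_cancel_right])
    calc k * (z * ⁅d, y⁆) * k⁻¹ = (k * z * k⁻¹) * ⁅k * d * k⁻¹, k * y * k⁻¹⁆ := by
          simp only [commutatorElement_def]; group
      _ = z * ⁅d, k * y * k⁻¹⁆ := by
          rw [hfixZ k (hk k hk') z hz, hce, ← mul_one (k * y * k⁻¹),
            Cfsg.Agent.Schur.commutatorElement_mul_central hc (one_mem _), mul_one]
  obtain ⟨g1, -, g3⟩ := glue σ hnorm (S.comp_inj hcomm hd) S1.inj (by
    intro x hx h hh e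
    refine P.qg_inf hF (S := ∅) ?_ ?_
    · rw [← S.comp_map hcomm hd]; exact ⟨x, hx, rfl⟩
    · rw [eq_inv_of_mul_eq_one_left e, Finset.union_empty]
      exact inv_mem (hk h hh))
  have hcardmap : ∀ (H : Subgroup Γ), (∀ g ∈ H, σ g = 1 → g = 1) →
      Nat.card (H.map σ) = Nat.card H := fun H hH =>
    Nat.card_congr (Equiv.ofBijective (fun h : H => (⟨σ h, h, h.2, rfl⟩ : ↥(H.map σ)))
      ⟨fun a b e => Subtype.ext (mul_inv_eq_one.1 (hH _ (mul_mem a.2 (inv_mem b.2))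
          (by simp [show σ a = σ b from congrArg Subtype.val e]))),
        fun ⟨_, a, ha, e⟩ => ⟨⟨a, ha⟩, Subtype.ext e⟩⟩).symm
  have hc1 : Nat.card Z1 = 3 := by
    rw [← hcardmap Z1 S1.inj, S1.map]
    have e : P₁.zgrp hF = P₁.qg hF P.pair := by
      ext g
      constructor
      · rintro ⟨c, hc⟩; exact ⟨0, c, zero_mem _, hc⟩
      · rintro ⟨w, c, hw, hc⟩
        refine ⟨c, P₁.isQ_congr hc (funext fun i => mem_supp.1 hw i ?_) rfl⟩
        rw [hP, hP₁]; revert i; decide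
    rw [e, P₁.card_qg hF, hP, hP₁]
    rfl
  have hcX : Nat.card X = 243 := by
    rw [← hcardmap X (S.comp_inj hcomm hd), S.comp_map hcomm hd, P.card_qg hF, hP]
    rfl
  have hU : Nat.card ((X ⊔ Z1).map σ) = 729 := by
    rw [hcardmap _ g1, g3, hcX, hc1]
  refine not_dvd_of_subgroup hσ Nat.prime_three ((X ⊔ Z1).map σ) ?_ fun z hz hzH _ =>
    ker_comm_of_split E g1 le_rfl z hz hzH
  have hidx := ((X ⊔ Z1).map σ).card_mul_index
  rw [hU, card_SU_four_three hF] at hidx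
  rw [Nat.eq_of_mul_eq_mul_left (by norm_num) hidx]
  norm_num

/-- Sections over long root groups pass to central quotients. -/
theorem zsplit_quot {Γ Δ : Type v} [Group Γ] [Group Δ] {σ : Γ →* SU 4 F 3} {σ' : Δ →* SU 4 F 3}
    (E' : CEx σ') (f : Γ →* Δ) (hf : Function.Surjective f) (hff : σ'.comp f = σ) {P : Frame 4 F 3}
    {Z0 : Subgroup Γ} (S : ZSplit hF P σ Z0) : ZSplit hF P σ' (Z0.map f) where
  ext := E'
  three := S.three
  wide := S.wide
  inj := by
    rintro _ ⟨x, hx, rfl⟩ h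
    rw [S.inj x hx (by rw [← hff]; exact h), map_one]
  map := by rw [Subgroup.map_map, hff, S.map]
  tor := by
    intro k l a hk x hx
    obtain ⟨y, hy, rfl⟩ := hx
    obtain ⟨k', rfl⟩ := hf k
    refine ⟨k' * y * k'⁻¹, S.tor k' l a ?_ y hy, by simp⟩
    rw [← hff]; exact hk

theorem zsplit_quot_form {Γ Δ : Type v} [Group Γ] [Group Δ] {σ : Γ →* SU 4 F 3}
    {σ' : Δ →* SU 4 F 3} (f : Γ →* Δ) (hff : σ'.comp f = σ) {P : Frame 4 F 3}
    {Z0 : Subgroup Γ} (S : ZSplit hF P σ Z0) (S' : ZSplit hF P σ' (Z0.map f))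
    {v w : Fin 4 → F} (hv : v ∈ supp P.pair) (hw : w ∈ supp P.pair) :
    (S'.form v w : Δ) = f (S.form v w : Γ) := by
  obtain ⟨a, β, ha⟩ := S.exists_lift hv
  obtain ⟨b, β', hb⟩ := S.exists_lift hw
  have h1 : f (⁅a, b⁆ * (S.form v w : Γ)⁻¹) ∈ Z0.map f := ⟨_, S.form_spec hv hw ha hb, rfl⟩
  rw [map_mul, map_inv, map_commutatorElement] at h1
  have hc : f (S.form v w : Γ) ∈ σ'.ker := by
    show σ' (f _) = 1
    rw [← MonoidHom.comp_apply, hff]; exact (S.form v w).2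
  exact congrArg Subtype.val (S'.proj_unique (c' := ⟨_, hc⟩)
    (S'.form_spec hv hw (a := f a) (b := f b) (by rw [← MonoidHom.comp_apply, hff]; exact ha)
      (by rw [← MonoidHom.comp_apply, hff]; exact hb)) h1)

/-- **The bound for `SU_4(3)`.** -/
theorem exists_two_gens {Γ : Type v} [Group Γ] [Finite Γ] (σ : Γ →* SU 4 F 3)
    (hσ : Cfsg.IsStemExtension σ) : ∃ c₁ c₂ : Γ, σ c₁ = 1 ∧ σ c₂ = 1 ∧ c₁ ^ 3 = 1 ∧ c₂ ^ 3 = 1 ∧
      σ.ker ≤ Subgroup.closure {c₁, c₂} := by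
  classical
  obtain ⟨ι, hι⟩ := exists_iota hF
  have h3 := three_eq_zero hF
  obtain ⟨u, f, hu, hf, huu, hff, huf⟩ := exists_std_pair hF (show (0 : Fin 4) ≠ 1 by decide)
  let P : Frame 4 F 3 := ⟨0, 1, u, f, by decide, hu, hf, huu, hff, huf⟩
  obtain ⟨u', f', hu', hf', huu', hff', huf'⟩ :=
    exists_std_pair hF (show (2 : Fin 4) ≠ 3 by decide)
  let P₁ : Frame 4 F 3 := ⟨2, 3, u', f', by decide, hu', hf', huu', hff', huf'⟩
  have h2 : (2 : Fin 4) ∉ P.pair := by simp [P, Frame.pair]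
  have h3' : (3 : Fin 4) ∉ P.pair := by simp [P, Frame.pair]
  obtain ⟨Z0, S⟩ := exists_zsplit hF ⟨hσ.1, hσ.2.1⟩ (by norm_num) le_rfl P
  set C : F → σ.ker := fun x => S.form (x • eI 2) ((1 : F) • eI 3) with hC
  have hCadd : ∀ x y, C (x + y) = C x * C y := fun x y =>
    Subtype.ext (S.piece_add_left h2 h3' x y 1)
  have hC0 : C 0 = 1 := by simpa using hCadd 0 0
  have hC3 : ∀ x, (C x : Γ) ^ 3 = 1 := fun x => by
    have e : C x ^ 3 = C (x + x + x) := by rw [hCadd, hCadd, pow_succ, pow_succ, pow_one]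
    rw [show x + x + x = 3 * x by ring, h3, zero_mul, hC0] at e
    exact congrArg Subtype.val e
  refine ⟨C 1, C ι, (C 1).2, (C ι).2, hC3 1, hC3 ι, ?_⟩
  set K := Subgroup.closure ({(C 1 : Γ), (C ι : Γ)} : Set Γ) with hK
  have hKker : K ≤ σ.ker := by
    rw [hK, Subgroup.closure_le]
    rintro x (rfl | rfl)
    exacts [(C 1).2, (C ι).2]
  have : K.Normal := ⟨fun x hx g => by
    rwa [Subgroup.mem_center_iff.1 (hσ.2.1 (hKker hx)) g, mul_inv_cancel_right]⟩
  let σ' : Γ ⧸ K →* SU 4 F 3 := QuotientGroup.lift K σ hKker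
  have hcomp : σ'.comp (QuotientGroup.mk' K) = σ := MonoidHom.ext fun x => rfl
  have hσ' : Cfsg.IsStemExtension σ' := by
    refine ⟨fun g => ?_, fun x hx => ?_, fun x hx => ?_⟩
    · obtain ⟨y, rfl⟩ := hσ.1 g
      exact ⟨QuotientGroup.mk' K y, rfl⟩
    · obtain ⟨y, rfl⟩ := QuotientGroup.mk'_surjective K x
      refine Subgroup.mem_center_iff.2 fun z => ?_
      obtain ⟨z, rfl⟩ := QuotientGroup.mk'_surjective K z
      rw [← map_mul, ← map_mul, Subgroup.mem_center_iff.1 (hσ.2.1 hx) z]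
    · obtain ⟨y, rfl⟩ := QuotientGroup.mk'_surjective K x
      have h := Subgroup.mem_map_of_mem (QuotientGroup.mk' K) (hσ.2.2 hx)
      rw [_root_.commutator_def, Subgroup.map_commutator,
        Subgroup.map_top_of_surjective _ (QuotientGroup.mk'_surjective K),
        ← _root_.commutator_def] at h
      exact h
  have S' : ZSplit hF P σ' (Z0.map (QuotientGroup.mk' K)) :=
    zsplit_quot hF ⟨hσ'.1, hσ'.2.1⟩ _ (QuotientGroup.mk'_surjective K) hcomp S
  have hsupp : ∀ (k : Fin 4) (x : F), k ∉ P.pair → x • (eI k : Fin 4 → F) ∈ supp P.pair :=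
    fun k x hk => Submodule.smul_mem _ _ (eI_mem_supp hk)
  have hone : ∀ x : F, S'.form (x • eI 2) ((1 : F) • eI 3) = 1 := by
    intro x
    refine Subtype.ext ?_
    rw [zsplit_quot_form hF _ hcomp S S' (hsupp 2 x h2) (hsupp 3 1 h3')]
    show QuotientGroup.mk' K (C x : Γ) = 1
    rw [QuotientGroup.mk'_apply, QuotientGroup.eq_one_iff]
    obtain ⟨a, b, rfl⟩ := exists_coords hF hι x
    have hn : ∀ (y : F) (a : ℕ), C ((a : F) * y) = C y ^ a := fun y a => by
      induction a with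
      | zero => rw [Nat.cast_zero, zero_mul, hC0, pow_zero]
      | succ a ih => rw [Nat.cast_succ, add_one_mul, hCadd, ih, pow_succ]
    have e1 : C (a : F) = C 1 ^ a := by simpa using hn 1 a
    rw [hCadd, hn, e1, Subgroup.coe_mul, SubgroupClass.coe_pow, SubgroupClass.coe_pow]
    exact mul_mem (pow_mem (Subgroup.subset_closure (by simp)) a)
      (pow_mem (Subgroup.subset_closure (by simp)) b)
  have hform : ∀ x y : F, S'.form (x • eI 2) (y • eI 3) = 1 := by
    intro x y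
    by_cases hy : y = 0
    · subst hy
      have h := S'.piece_add_right h2 h3' x 0 0
      rw [add_zero] at h
      exact Subtype.ext (left_eq_mul.1 h)
    obtain ⟨t, a, ht, hak, har, -⟩ := P.exists_tor₂ hF h2 h3' (show (2 : Fin 4) ≠ 3 by decide)
      (l := y ^ 3) (ρ := 1) (pow_ne_zero _ hy) (one_pow _)
    have h := S'.piece_conj h2 h3' x y ht
    rw [hak, har] at h
    have h8 : y ^ 8 = 1 := by
      have := FiniteField.pow_card_sub_one_eq_one y hy
      rwa [hF] at this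
    rw [show ((y ^ 3) ^ 3 * 1 * x : F) = y * x by linear_combination x * y * h8,
      show ((y ^ 3) ^ 3 * ((y ^ 3) ^ 3 / (y ^ 3 * 1)) * y : F) = 1 by
        have h16 : y ^ 16 = 1 := by linear_combination (y ^ 8 + 1) * h8
        field_simp
        linear_combination h16] at h
    rw [← h]
    exact hone _
  have h3K := not_three_dvd hF hσ' P P₁ rfl rfl S' hform
  have hp : CharP F 3 := (CharP.charP_iff_prime_eq_zero Nat.prime_three).2 (by exact_mod_cast h3)
  have E : PExt 3 σ' := ⟨Nat.prime_three, hσ'.1, hσ'.2.1, h3K⟩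
  have hbot : σ'.ker = ⊥ := by
    have := hp
    exact ptriv_SU hF 4 (by norm_num) (by norm_num) (Γ ⧸ K) σ' E
      (gen_of_coprime (SU_gen hF (by norm_num))
        ⟨commutator_SU_eq_top hF (by norm_num) (by norm_num)⟩ hσ' E)
  intro x hx
  have : QuotientGroup.mk' K x ∈ σ'.ker := hx
  rw [hbot, Subgroup.mem_bot] at this
  exact (QuotientGroup.eq_one_iff x).1 this

end Cfsg.Agent.U43Mult50
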