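import Cfsg.Agent.U43Mult50.Coords

/-!
Permutations of 378 scaled roots compatible with a matrix acting on the alternating matrices
(helper50).
-/

set_option autoImplicit false

namespace Cfsg.Agent.U43Mult50

open Matrix Cfsg.Agent.ChevCore Cfsg.Agent.CosetEnum

universe v

/-- The scaled roots. -/
abbrev Pt := Fin 126 × ZMod 3

variable {F : Type v} [Field F] {ι : F}

/-- An alternating matrix. -/
def J (ι : F) (i : Fin 126) : Matrix (Fin 4) (Fin 4) F :=
  Matrix.of fun a b => val ι (jEnt i a b)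

/-- The inner product of two scaled roots, up to a shift. -/
def Hv (a b : Pt) : Option (ZMod 3) :=
  if tN a.1 b.1 = 0 then none else some ((tN a.1 b.1 : ZMod 3) + a.2 - b.2)

/-- A permutation of the scaled roots compatible with a matrix. -/
def Compat (ι : F) (M : Matrix (Fin 4) (Fin 4) F) (p : Equiv.Perm Pt) : Prop :=
  (∀ a : Pt, p (a.1, a.2 + 1) = ((p a).1, (p a).2 + 1)) ∧ (∀ a b, Hv (p a) (p b) = Hv a b) ∧
    ∀ a : Pt, ∃ s : F, s ≠ 0 ∧ M * J ι a.1 * Mᵀ = s • J ι (p a).1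

theorem compat_one : Compat ι (1 : Matrix (Fin 4) (Fin 4) F) 1 :=
  ⟨fun _ => rfl, fun _ _ => rfl, fun _ => ⟨1, one_ne_zero, by simp⟩⟩

theorem compat_mul {M N : Matrix (Fin 4) (Fin 4) F} {p q : Equiv.Perm Pt} (h : Compat ι M p)
    (h' : Compat ι N q) : Compat ι (M * N) (p * q) := by
  refine ⟨fun a => ?_, fun a b => ?_, fun a => ?_⟩
  · simp only [Equiv.Perm.mul_apply, h'.1, h.1]
  · simp only [Equiv.Perm.mul_apply, h.2.1, h'.2.1]
  · obtain ⟨s, hs, e⟩ := h'.2.2 a
    obtain ⟨t, ht, e'⟩ := h.2.2 (q a)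
    refine ⟨s * t, mul_ne_zero hs ht, ?_⟩
    rw [show M * N * J ι a.1 * (M * N)ᵀ = M * (N * J ι a.1 * Nᵀ) * Mᵀ by
      rw [Matrix.transpose_mul]; simp [Matrix.mul_assoc], e, Matrix.mul_smul, Matrix.smul_mul, e',
      smul_smul]
    rfl

theorem compat_equivariant {M : Matrix (Fin 4) (Fin 4) F} {p : Equiv.Perm Pt}
    (h : Compat ι M p) (i : Fin 126) (k e : ZMod 3) :
    p (i, k + e) = ((p (i, k)).1, (p (i, k)).2 + e) := by
  obtain ⟨n, rfl⟩ : ∃ n : ℕ, (n : ZMod 3) = e := ⟨e.val, by simp⟩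
  induction n with
  | zero => simp
  | succ n ih =>
    have := h.1 (i, k + n)
    rw [ih] at this
    rw [Nat.cast_succ, ← add_assoc, ← add_assoc]
    exact this

/-- The shift of the phases. -/
def sh (e : ZMod 3) : Equiv.Perm Pt := Equiv.prodCongr (Equiv.refl _) (Equiv.addRight e)

theorem sh_apply (e : ZMod 3) (a : Pt) : sh e a = (a.1, a.2 + e) := rfl

theorem sh_commute {M : Matrix (Fin 4) (Fin 4) F} {p : Equiv.Perm Pt} (h : Compat ι M p)
    (e : ZMod 3) : Commute (sh e) p :=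
  Equiv.ext fun a => by
    simp only [Equiv.Perm.mul_apply, sh_apply]
    exact (compat_equivariant h a.1 a.2 e).symm

/-- The position of an entry. -/
def posA : Fin 6 → Fin 4 := ![0, 0, 0, 1, 1, 2]

/-- The position of an entry. -/
def posB : Fin 6 → Fin 4 := ![1, 2, 3, 2, 3, 3]

theorem jEnt_pos (i : ℕ) (m : Fin 6) :
    jEnt i (posA m) (posB m) = digit ((jTab >>> (20 * i)) % 2 ^ 20) m := by
  fin_cases m <;> rfl

variable [Fintype F] (hF : Fintype.card F = 3 ^ 2) (hι : ι * ι = -1)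
include hF hι

/-- Only the shifts lie over the identity. -/
theorem compat_one_eq {p : Equiv.Perm Pt} (h : Compat ι (1 : Matrix (Fin 4) (Fin 4) F) p) :
    ∃ e, p = sh e := by
  have hfix : ∀ a, (p a).1 = a.1 := by
    intro a
    obtain ⟨s, hs, e⟩ := h.2.2 a
    simp only [Matrix.one_mul, Matrix.transpose_one, Matrix.mul_one] at e
    by_contra hne
    have hb := sepB_true
    simp only [sepB, kallUpTo_iff, Bool.or_eq_true, Nat.beq_eq] at hb
    have h1 := (hb _ (p a).1.isLt a.1 a.1.isLt).resolve_left fun e' => hne (Fin.ext e')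
    simp only [kanyUpTo_iff, forceNat_eq, Bool.not_eq_true', ← Bool.not_eq_true, Nat.beq_eq] at h1
    obtain ⟨m, hm, m', hm', hcross⟩ := h1
    refine hcross (val_inj hF hι (cmul_lt _ _) (cmul_lt _ _) ?_)
    have hd : ∀ m : Fin 6, val ι (digit ((jTab >>> (20 * (a.1 : ℕ))) % 2 ^ 20) m) =
        s * val ι (digit ((jTab >>> (20 * ((p a).1 : ℕ))) % 2 ^ 20) m) := by
      intro m
      have := congrFun (congrFun e (posA m)) (posB m)
      simpa [J, jEnt_pos] using this
    rw [val_cmul hF hι, val_cmul hF hι, hd ⟨m, hm⟩, hd ⟨m', hm'⟩]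
    ring
  set c : Fin 126 → ZMod 3 := fun i => (p (i, 0)).2 with hc
  have hp : ∀ i k, p (i, k) = (i, k + c i) := fun i k => by
    have := compat_equivariant h i 0 k
    rw [zero_add] at this
    rw [this, hfix]
    exact Prod.ext rfl (add_comm _ _)
  have hedge : ∀ i j : Fin 126, tN i j ≠ 0 → c i = c j := fun i j ht => by
    have := h.2.1 (i, 0) (j, 0)
    simp only [hp, Hv, if_neg ht, zero_add, add_zero, sub_zero, Option.some.injEq] at this
    linear_combination this
  have hl := linkB_true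
  have hh := hubB_true
  simp only [linkB, kallUpTo_iff, Bool.or_eq_true, Bool.not_eq_true', ← Bool.not_eq_true,
    Nat.beq_eq] at hl
  simp only [hubB, Bool.and_eq_true, Bool.not_eq_true', ← Bool.not_eq_true, Nat.beq_eq] at hh
  refine ⟨c 0, Equiv.ext fun a => ?_⟩
  rw [show p a = (a.1, a.2 + c a.1) from hp a.1 a.2, sh_apply]
  suffices c a.1 = c 0 by rw [this]
  rcases hl a.1 a.1.isLt with (((h0 | h1) | h2) | h3) | h5
  · exact hedge a.1 0 h0
  · exact (hedge a.1 1 h1).trans (hedge 1 0 hh.1.1.1)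
  · exact (hedge a.1 2 h2).trans (hedge 2 0 hh.1.1.2)
  · exact (hedge a.1 3 h3).trans (hedge 3 0 hh.1.2)
  · exact (hedge a.1 5 h5).trans (hedge 5 0 hh.2)

end Cfsg.Agent.U43Mult50
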