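import Cfsg.Agent.U43Mult50.Check
import Cfsg.Agent.U43Mult50.Bound

/-!
The numerals of the certificate in a field of nine elements (helper50).
-/

set_option autoImplicit false

namespace Cfsg.Agent.U43Mult50

open Matrix Cfsg.Agent.Unitary

universe v

variable {F : Type v} [Field F]

/-- The value of a numeral. -/
def val (ι : F) (a : ℕ) : F := ((a % 3 : ℕ) : F) + ((a / 3 : ℕ) : F) * ι

/-- The vector of a numeral. -/
def vecN (ι : F) (v : ℕ) : Fin 4 → F := fun i => val ι (digit v i)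

variable {ι : F}

theorem val_zero : val ι 0 = 0 := by simp [val]

theorem val_one : val ι 1 = 1 := by simp [val]

theorem val_three : val ι 3 = ι := by simp [val]

variable [Fintype F] (hF : Fintype.card F = 3 ^ 2) (hι : ι * ι = -1)
include hF

theorem charP_three : CharP F 3 :=
  (CharP.charP_iff_prime_eq_zero Nat.prime_three).2 (by exact_mod_cast three_eq_zero hF)

theorem cast_mod_three (n : ℕ) : ((n % 3 : ℕ) : F) = (n : F) := by
  conv_rhs => rw [← Nat.div_add_mod n 3]
  push_cast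
  rw [three_eq_zero hF, zero_mul, zero_add]

theorem val_pack (X Y : ℕ) : val ι (X % 3 + 3 * (Y % 3)) = (X : F) + (Y : F) * ι := by
  rw [val, show (X % 3 + 3 * (Y % 3)) % 3 = X % 3 by omega,
    show (X % 3 + 3 * (Y % 3)) / 3 = Y % 3 by omega, cast_mod_three hF, cast_mod_three hF]

theorem val_cadd (a b : ℕ) : val ι (cadd a b) = val ι a + val ι b := by
  rw [cadd, val_pack hF]
  simp only [val, Nat.cast_add]
  ring

include hι in
theorem val_cmul (a b : ℕ) : val ι (cmul a b) = val ι a * val ι b := by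
  have h3 := three_eq_zero hF
  rw [cmul, val_pack hF]
  simp only [val, Nat.cast_add, Nat.cast_mul, cast_mod_three hF, Nat.cast_ofNat]
  linear_combination ((a / 3 : ℕ) : F) * ((b / 3 : ℕ) : F) * h3 -
    ((a / 3 : ℕ) : F) * ((b / 3 : ℕ) : F) * hι

theorem val_cneg (a : ℕ) : val ι (cneg a) = -val ι a := by
  have h3 := three_eq_zero hF
  rw [cneg, val_pack hF]
  simp only [val, Nat.cast_mul, cast_mod_three hF, Nat.cast_ofNat]
  linear_combination ((a : F) + ((a / 3 : ℕ) : F) * ι) * h3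

theorem natCast_cube (n : ℕ) : (n : F) ^ 3 = n := by
  have := charP_three hF
  have h := congrArg (ZMod.castHom (dvd_refl 3) F) (ZMod.pow_card (p := 3) (n : ZMod 3))
  rwa [map_pow, map_natCast] at h

include hι in
theorem val_cbar (a : ℕ) : val ι (cbar a) = val ι a ^ 3 := by
  have h3 := three_eq_zero hF
  rw [cbar, show a % 3 + 3 * (2 * (a / 3) % 3) = a % 3 % 3 + 3 * (2 * (a / 3) % 3) by omega,
    val_pack hF]
  simp only [val, Nat.cast_mul, Nat.cast_ofNat]
  generalize hx : ((a % 3 : ℕ) : F) = x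
  generalize hy : ((a / 3 : ℕ) : F) = y
  have ex : x ^ 3 = x := hx ▸ natCast_cube hF _
  have ey : y ^ 3 = y := hy ▸ natCast_cube hF _
  linear_combination (y * ι - x ^ 2 * y * ι - x * y ^ 2 * ι ^ 2) * h3 - ex + ι * ey
    - y ^ 3 * ι * hι

include hι in
theorem val_csum (f : ℕ → ℕ) : val ι (csum f) = ∑ i : Fin 4, val ι (f i) := by
  rw [csum, val_cadd hF, val_cadd hF, val_cadd hF, Fin.sum_univ_four]
  simp only [Fin.val_zero, Fin.val_one, Fin.val_two]
  rw [show ((3 : Fin 4) : ℕ) = 3 from rfl]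
  ring

include hι in
theorem herm_val (f g : ℕ → ℕ) :
    herm 3 (fun i : Fin 4 => val ι (f i)) (fun i => val ι (g i)) =
      val ι (csum fun i => cmul (f i) (cbar (g i))) := by
  rw [val_csum hF hι]
  simp only [herm, hermForm, val_cmul hF hι, val_cbar hF hι]

omit hF in
theorem cmul_lt (a b : ℕ) : cmul a b < 9 := by unfold cmul; omega

omit hF in
theorem digit_lt (v k : ℕ) : digit v k < 9 := Nat.mod_lt _ (by norm_num)

include hι in
theorem val_inj {a b : ℕ} (ha : a < 9) (hb : b < 9) (h : val ι a = val ι b) : a = b := by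
  have h0 : val ι (cadd a (cneg b)) = 0 := by rw [val_cadd hF, val_cneg hF, h, add_neg_cancel]
  have hk : ∀ a < 9, ∀ b < 9, cadd a (cneg b) = 0 → a = b := by decide
  have hinv : ∀ c < 9, c ≠ 0 → ∃ d < 9, cmul c d = 1 := by decide
  refine hk a ha b hb (by_contra fun hne => ?_)
  obtain ⟨d, -, hd⟩ := hinv _ (by unfold cadd; omega) hne
  have := val_cmul hF hι (cadd a (cneg b)) d
  rw [hd, h0, zero_mul, val_one] at this
  exact one_ne_zero this

include hι in
theorem exists_val (x : F) : ∃ c < 9, val ι c = x := by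
  obtain ⟨a, b, rfl⟩ := exists_coords hF hι x
  exact ⟨a % 3 + 3 * (b % 3), by omega, val_pack hF a b⟩

include hι in
theorem exists_vecN (x : Fin 4 → F) : ∃ v < 6561, vecN ι v = x := by
  obtain ⟨c0, h0, e0⟩ := exists_val hF hι (x 0)
  obtain ⟨c1, h1, e1⟩ := exists_val hF hι (x 1)
  obtain ⟨c2, h2, e2⟩ := exists_val hF hι (x 2)
  obtain ⟨c3, h3, e3⟩ := exists_val hF hι (x 3)
  refine ⟨c0 + 9 * c1 + 81 * c2 + 729 * c3, by omega, funext fun i => ?_⟩
  fin_cases i <;> simp only [vecN, digit]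
  · rw [show (c0 + 9 * c1 + 81 * c2 + 729 * c3) / 9 ^ (0 : ℕ) % 9 = c0 by norm_num; omega]; exact e0
  · rw [show (c0 + 9 * c1 + 81 * c2 + 729 * c3) / 9 ^ (1 : ℕ) % 9 = c1 by norm_num; omega]; exact e1
  · rw [show (c0 + 9 * c1 + 81 * c2 + 729 * c3) / 9 ^ (2 : ℕ) % 9 = c2 by norm_num; omega]; exact e2
  · rw [show (c0 + 9 * c1 + 81 * c2 + 729 * c3) / 9 ^ (3 : ℕ) % 9 = c3 by norm_num; omega]; exact e3

end Cfsg.Agent.U43Mult50
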