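import Cfsg.Agent.U43Mult50.Compat

/-!
The five generators with their compatible permutations (helper50).
-/

set_option autoImplicit false

namespace Cfsg.Agent.U43Mult50

open Matrix Cfsg.Agent.Unitary Cfsg.Agent.ChevCore Cfsg.Agent.CosetEnum

universe v

theorem piN_facts {k : ℕ} (hk : k < 10) {i : ℕ} (hi : i < 126) :
    piN k i < 126 ∧ pinvN k i < 126 ∧ pinvN k (piN k i) = i ∧ piN k (pinvN k i) = i := by
  have h := permB_true
  simp only [permB, kallUpTo_iff, Bool.and_eq_true, Nat.blt_eq, Nat.beq_eq] at h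
  obtain ⟨⟨⟨h1, h2⟩, h3⟩, h4⟩ := h k hk i hi
  exact ⟨h1, h2, h3, h4⟩

/-- A permutation of the scaled roots from the tables. -/
def permP (k : Fin 10) : Equiv.Perm Pt where
  toFun a := (⟨piN k a.1, (piN_facts k.isLt a.1.isLt).1⟩, a.2 + (cN k a.1 : ZMod 3))
  invFun a := (⟨pinvN k a.1, (piN_facts k.isLt a.1.isLt).2.1⟩,
    a.2 - (cN k (pinvN k a.1) : ZMod 3))
  left_inv a := by
    refine Prod.ext (Fin.ext (piN_facts k.isLt a.1.isLt).2.2.1) ?_
    show a.2 + (cN k a.1 : ZMod 3) - (cN k (pinvN k (piN k a.1)) : ZMod 3) = a.2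
    rw [(piN_facts k.isLt a.1.isLt).2.2.1, add_sub_cancel_right]
  right_inv a := by
    refine Prod.ext (Fin.ext (piN_facts k.isLt a.1.isLt).2.2.2) ?_
    show a.2 - (cN k (pinvN k a.1) : ZMod 3) + (cN k (pinvN k a.1) : ZMod 3) = a.2
    rw [sub_add_cancel]

theorem permP_apply (k : Fin 10) (a : Pt) :
    (((permP k a).1 : Fin 126) : ℕ) = piN k a.1 ∧ (permP k a).2 = a.2 + (cN k a.1 : ZMod 3) :=
  ⟨rfl, rfl⟩

theorem permP_Hv (k : Fin 10) (a b : Pt) : Hv (permP k a) (permP k b) = Hv a b := by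
  have h := invB_true
  simp only [invB, kallUpTo_iff, forceNat_eq] at h
  have h1 := h k k.isLt a.1 a.1.isLt b.1 b.1.isLt
  rw [show (piTab.getD (k : ℕ) 0 >>> (7 * (a.1 : ℕ))) % 128 = piN k a.1 from rfl,
    show (piTab.getD (k : ℕ) 0 >>> (7 * (b.1 : ℕ))) % 128 = piN k b.1 from rfl,
    show (cTab.getD (k : ℕ) 0 >>> (2 * (a.1 : ℕ))) % 4 = cN k a.1 from rfl,
    show (cTab.getD (k : ℕ) 0 >>> (2 * (b.1 : ℕ))) % 4 = cN k b.1 from rfl] at h1
  simp only [Bool.or_eq_true, Bool.and_eq_true, Nat.beq_eq, Bool.not_eq_true',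
    ← Bool.not_eq_true] at h1
  simp only [Hv, (permP_apply k a).1, (permP_apply k b).1, (permP_apply k a).2,
    (permP_apply k b).2]
  rcases h1 with ⟨h0, h0'⟩ | ⟨⟨h0, h0'⟩, e⟩
  · rw [if_pos h0', if_pos h0]
  · rw [if_neg h0', if_neg h0]
    congr 1
    have e' := congrArg (fun n : ℕ => (n : ZMod 3)) e
    simp only [ZMod.natCast_mod, Nat.cast_add, Nat.cast_mul] at e'
    have h3 : (3 : ZMod 3) = 0 := rfl
    push_cast at e'
    linear_combination e' - (cN k b.1 : ZMod 3) * h3

variable {F : Type v} [Field F] {ι : F}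

/-- The matrix of the tables. -/
def matM (ι : F) (k : ℕ) : Matrix (Fin 4) (Fin 4) F := Matrix.of fun a b => val ι (mEnt k a b)

variable [Fintype F] (hF : Fintype.card F = 3 ^ 2) (hι : ι * ι = -1)
include hF

theorem J_transpose (i : Fin 126) : (J ι i)ᵀ = -J ι i := by
  ext a b
  simp only [Matrix.transpose_apply, J, Matrix.of_apply, Matrix.neg_apply, jEnt]
  rcases lt_trichotomy (a : ℕ) b with h | h | h
  · rw [if_pos h, if_neg (by omega), if_pos h, val_cneg hF]
  · rw [if_neg (by omega), if_neg (by omega), if_neg (by omega), if_neg (by omega), val_zero,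
      neg_zero]
  · rw [if_pos h, if_neg (by omega), if_pos h, val_cneg hF, neg_neg]

include hι in
theorem altM (k : Fin 10) (i : Fin 126) : ∃ s : F, s ≠ 0 ∧
    matM ι k * J ι i * (matM ι k)ᵀ = s • J ι ⟨piN k i, (piN_facts k.isLt i.isLt).1⟩ := by
  have h := altB_true
  simp only [altB, kallUpTo_iff, forceNat_eq, Bool.and_eq_true, Bool.or_eq_true, Nat.blt_eq,
    Nat.beq_eq, Nat.ble_eq, Bool.not_eq_true', ← Bool.not_eq_true] at h
  obtain ⟨⟨hs0, hs9⟩, hent⟩ := h k k.isLt i i.isLt
  set j : Fin 126 := ⟨piN k i, (piN_facts k.isLt i.isLt).1⟩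
  refine ⟨val ι (sN k i), fun e => hs0 (val_inj hF hι hs9 (by norm_num) (e.trans val_zero.symm)), ?_⟩
  set X := matM ι k * J ι i * (matM ι k)ᵀ with hX
  have hup : ∀ a b : Fin 4, (a : ℕ) < b → X a b = (val ι (sN k i) • J ι j) a b := by
    intro a b hab
    have e := congrArg (val ι) ((hent a a.isLt b b.isLt).resolve_left (by omega))
    simp only [val_csum hF hι, val_cmul hF hι] at e
    simpa [hX, Matrix.mul_apply, matM, J, smul_eq_mul, j] using e
  have hskew : Xᵀ = -X := by
    rw [hX, Matrix.transpose_mul, Matrix.transpose_mul, Matrix.transpose_transpose,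
      J_transpose hF, Matrix.neg_mul, Matrix.mul_neg, Matrix.mul_assoc]
  have hskewJ := J_transpose (ι := ι) hF j
  ext a b
  rcases lt_trichotomy (a : ℕ) b with h' | h' | h'
  · exact hup a b h'
  · obtain rfl : a = b := Fin.ext h'
    have e1 := congrFun (congrFun hskew a) a
    have e2 := congrFun (congrFun hskewJ a) a
    simp only [Matrix.transpose_apply, Matrix.neg_apply] at e1 e2
    have h3 := three_eq_zero hF
    rw [show X a a = 0 by linear_combination (-1 : F) * e1 + X a a * h3,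
      Matrix.smul_apply, show J ι j a a = 0 by linear_combination (-1 : F) * e2 + J ι j a a * h3,
      smul_zero]
  · have e1 := congrFun (congrFun hskew b) a
    have e2 := congrFun (congrFun hskewJ b) a
    simp only [Matrix.transpose_apply, Matrix.neg_apply] at e1 e2
    rw [e1, hup b a h', Matrix.smul_apply, Matrix.smul_apply, e2, smul_neg]

include hι in
theorem compat_gen (k : Fin 10) : Compat ι (matM ι k) (permP k) := by
  refine ⟨fun a => Prod.ext (Fin.ext rfl) ?_, permP_Hv k, fun a => ?_⟩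
  · show a.2 + 1 + _ = a.2 + _ + 1
    exact add_right_comm _ _ _
  · obtain ⟨s, hs, e⟩ := altM hF hι k a.1
    exact ⟨s, hs, e⟩

omit [Field F] [Fintype F] hF in
theorem shift_comm {a b : Fin 10} {e : ℕ} (h : shiftB a b e = true) :
    permP a * permP b = sh (e : ZMod 3) * (permP b * permP a) := by
  simp only [shiftB, kallUpTo_iff, Bool.and_eq_true, Nat.beq_eq] at h
  refine Equiv.ext fun x => ?_
  obtain ⟨h1, h2⟩ := h x.1 x.1.isLt
  simp only [Equiv.Perm.mul_apply, sh_apply]
  refine Prod.ext (Fin.ext ?_) ?_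
  · show piN a (piN b x.1) = piN b (piN a x.1)
    exact h1
  · show x.2 + (cN b x.1 : ZMod 3) + (cN a (piN b x.1) : ZMod 3) =
      x.2 + (cN a x.1 : ZMod 3) + (cN b (piN a x.1) : ZMod 3) + (e : ZMod 3)
    have e' := congrArg (fun n : ℕ => (n : ZMod 3)) h2
    simp only [ZMod.natCast_mod, Nat.cast_add] at e'
    linear_combination e'

/-- A generator in `SU_4(3)`. -/
def IsGen (ι : F) (k : ℕ) (g : SU 4 F 3) : Prop :=
  (g : Matrix.SpecialLinearGroup (Fin 4) F).1 = matM ι k

include hι in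
theorem genM_conj {k : ℕ} (hk : k < 5) :
    matM ι (k + 5) = Matrix.diagonal (fun r : Fin 4 => val ι (dN r)) * matM ι k *
      Matrix.diagonal (fun r : Fin 4 => val ι (dInvN r)) := by
  have h := genB_true
  simp only [genB, kallUpTo_iff, Bool.and_eq_true, Nat.beq_eq] at h
  ext a b
  rw [Matrix.mul_diagonal, Matrix.diagonal_mul]
  simp only [matM, Matrix.of_apply, ((h k hk).2 a a.isLt b b.isLt).2, val_cmul hF hι]

include hι in
theorem exists_gen {k : ℕ} (hk : k < 5) : ∃ g : SU 4 F 3, IsGen ι k g ∧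
    ∀ x, g • x = x + (herm 3 x (fun i : Fin 4 => val ι (genU k i)) •
        (fun i : Fin 4 => val ι (genU k (4 + i))) -
      herm 3 x (fun i : Fin 4 => val ι (genU k (4 + i))) • (fun i : Fin 4 => val ι (genU k i)) +
      (val ι (genU k 8) * herm 3 x (fun i : Fin 4 => val ι (genU k i))) •
        (fun i : Fin 4 => val ι (genU k i))) := by
  have h := genB_true
  simp only [genB, kallUpTo_iff, Bool.and_eq_true, Nat.beq_eq] at h
  obtain ⟨⟨⟨hu, hw⟩, hb⟩, hent⟩ := h k hk
  set u : Fin 4 → F := fun i => val ι (genU k i)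
  set w : Fin 4 → F := fun i => val ι (genU k (4 + i))
  have huu : herm 3 u u = 0 := by
    rw [herm_val hF hι (genU k) (genU k), hu, val_zero]
  have hwu : herm 3 w u = 0 := by
    rw [herm_val hF hι (fun i => genU k (4 + i)) (genU k), hw, val_zero]
  have hbb : val ι (genU k 8) + val ι (genU k 8) ^ 3 = -herm 3 w w := by
    rw [herm_val hF hι (fun i => genU k (4 + i)) (fun i => genU k (4 + i)), ← val_cbar hF hι,
      ← val_cadd hF, hb, val_cneg hF]
  refine ⟨Qel hF huu hwu hbb, ?_, Qel_smul hF huu hwu hbb⟩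
  show qelMat 3 u w (val ι (genU k 8)) = _
  ext a b
  rw [qelMat]
  simp only [matM, Matrix.of_apply, (hent a a.isLt b b.isLt).1, qelEnt, val_cadd hF, val_cneg hF,
    val_cmul hF hι, val_cbar hF hι, Matrix.add_apply, Matrix.sub_apply, Matrix.vecMulVec_apply,
    Matrix.smul_apply, smul_eq_mul, Matrix.one_apply, Fin.val_inj, u, w]
  split_ifs <;> simp only [val_one, val_zero] <;> ring

end Cfsg.Agent.U43Mult50
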